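import Cfsg.Agent.H86.RG.Fam
import Cfsg.Agent.H86.RG.Prm
import Cfsg.Agent.LThreeFi23.CentUuComp
import Cfsg.Agent.H692.Ore.Fi23C
import Cfsg.Agent.H830.Parts
import Cfsg.Agent.H839.ElevenMain
import Cfsg.Agent.H839.Seven
import Cfsg.Agent.H839.Thirteen
import Cfsg.Agent.H839.SeventeenMain
import Cfsg.Agent.KFacts.FiTTh.Has
import Cfsg.Agent.KFacts.FiTTh.BasInv

/-!
# S3509, row `Fi23` (helper799, after the plan of helper86)

* `dead` : no cover commutes with a transposition (M-rule for `C(t) = 2.Fi22`);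
* `even` : no cover contains an involution, if it contains no element of order 3 or has two members only;
* `row_fi23`.
-/

set_option autoImplicit false
set_option maxRecDepth 100000
set_option linter.constructorNameAsVariable false

namespace Cfsg.Agent.H799.RG.Fi

open Subgroup MulAction Cfsg
open Cfsg.Agent.H106.RC Cfsg.Agent.H867.RC Cfsg.Agent.H873.RG Cfsg.Agent.H86.RG
open Cfsg.Agent.Fischer.Fi23Z Cfsg.Agent.Fischer.Fi23Hom Cfsg.Agent.LThreeFi23
open Cfsg.Agent.KFacts.FiTTh.Cent (W2 W3 hW2 hW3)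
open Cfsg.Agent.H692.Ore.Fi23B Cfsg.Agent.H692.Ore.Fi23C
open Cfsg.Spor Cfsg.Spor.Fi23

abbrev G : Type := Spor.Fi23

instance finG : Finite G := Nat.finite_of_card_ne_zero (by rw [card_G]; norm_num)

/-! ### Transpositions -/

/-- transpositions -/
def Tp (t : G) : Prop := IsConj z0 t

theorem tp_z0 : Tp z0 := IsConj.refl _

theorem tp_T {p : ℕ} (hp : p < 31671) : Tp (T p) := by
  obtain ⟨g, rfl⟩ := exists_rep hp
  exact isConj_iff.2 ⟨g, (T_eq rfl).symm⟩

theorem tp_el (x : Lt) : Tp (el x) := by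
  rw [← T_pt]
  exact tp_T (pt_lt x)

theorem tp_ne {t : G} (h : Tp t) : t ≠ 1 := by
  intro h1
  rw [h1] at h
  have h2 : (z0 : G) = 1 := isConj_one_left.1 h
  have h3 : (el .z : G) * el .z = 1 := el_sq .z
  have h4 := Cfsg.Agent.H839.Fi23.tt_ne
  have h5 : Tp Cfsg.Agent.H839.Fi23.tt := tp_T (by norm_num)
  rw [Tp, h2] at h5
  exact h4 (isConj_one_right.1 h5)

/-! ### The dead rule -/

theorem nsa_fi22 : NSA Spor.Fi22 := by
  refine ⟨Cfsg.Agent.R01.Fi22Facts.isSimple, fun h => ?_, not_alt (k := 16) ?_ ?_⟩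
  · obtain ⟨x, y, hxy⟩ := Cfsg.Agent.H830.Con22.ncomm
    exact hxy (h.is_comm.comm x y)
  · rw [Cfsg.Agent.Fischer.Fi22Order.card_fi22]; decide
  · rw [Cfsg.Agent.Fischer.Fi22Order.card_fi22]; decide

variable {Ω : Type} [Nonempty Ω] [MulAction G Ω] {ι : Type} [Finite ι]

/-- **no cover commutes with a transposition** -/
theorem dead (hIH : IHx (Nat.card G)) (hE : Env G Ω (⊤ : Subgroup G)) : Dead Ω ι {t : G | Tp t} := by
  intro x r hx hc d hd hcm
  obtain ⟨g, hg⟩ := isConj_iff.1 (show Tp d from hd)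
  obtain ⟨π, hπ, hperf⟩ := Cfsg.Agent.H830.Parts.ext23 (MulAut.conj g).symm
  have he : (MulAut.conj g).symm.symm z0 = d := hg
  generalize (MulAut.conj g).symm.symm z0 = t at π hπ hperf he
  subst he
  have hmem : ∀ i, x i ∈ centralizer ({t} : Set G) := fun i => mem_centralizer_singleton_iff.2 (hcm i).symm
  have htM : t ∈ centralizer ({t} : Set G) := mem_centralizer_singleton_iff.2 rfl
  have hp : ⁅centralizer ({t} : Set G), centralizer ({t} : Set G)⁆ = centralizer ({t} : Set G) := by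
    have h1 : (commutator ↥(centralizer ({t} : Set G))).map (centralizer ({t} : Set G)).subtype = ⁅centralizer ({t} : Set G), centralizer ({t} : Set G)⁆ := by
      rw [commutator_def, Subgroup.map_commutator, ← MonoidHom.range_eq_map, Subgroup.range_subtype]
    rw [← h1, hperf, ← MonoidHom.range_eq_map, Subgroup.range_subtype]
  have hker : π.ker ≤ center ↥(centralizer ({t} : Set G)) := by
    intro c hc
    rw [mem_center_iff]
    rcases (hπ.ker c).1 hc with rfl | rfl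
    · intro a; rw [mul_one, one_mul]
    · exact hπ.comm
  have hne : centralizer ({t} : Set G) ≠ ⊤ := by
    intro h
    apply tp_ne (show Tp t from hd)
    have h1 : t ∈ centralizer (((⊤ : Subgroup G) : Set G)) := by
      rw [mem_centralizer_iff]
      intro a _
      have h2 : a ∈ centralizer ({t} : Set G) := by rw [h]; trivial
      exact mem_centralizer_singleton_iff.1 h2
    rw [hE.cent] at h1
    exact mem_bot.1 h1
  apply tp_ne (show Tp t from hd)
  refine hE.single fun ω => ?_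
  rcases mrule_IHx hIH (Subgroup.topEquiv (G := G)) (M := centralizer ({t} : Set G)) le_top hne hp π hπ.surj hker nsa_fi22 hx hc
    (fun i => le_normalizer (hmem i)) ω with h | ⟨j, h1, h2⟩
  · exact h htM
  · have h3 : (⟨x j, hmem j⟩ : ↥(centralizer ({t} : Set G))) ∈ center ↥(centralizer ({t} : Set G)) := by
      rw [mem_center_iff]
      intro a
      exact Subtype.ext (h1 a a.2).symm
    have h4 : π ⟨x j, hmem j⟩ ∈ center Spor.Fi22 := by
      rw [mem_center_iff]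
      intro b
      obtain ⟨a, rfl⟩ := hπ.surj b
      rw [← map_mul, ← map_mul, mem_center_iff.1 h3 a]
    rw [Cfsg.Agent.H830.Con24.center_of_simple Cfsg.Agent.R01.Fi22Facts.isSimple Cfsg.Agent.H830.Con22.ncomm,
      mem_bot, hπ.ker] at h4
    rcases h4 with h4 | h4
    · exact absurd (congrArg Subtype.val h4) (hx.ne j)
    · have h5 : x j = t := congrArg Subtype.val h4
      rwa [h5] at h2

/-! ### Fixed points of elements of prime order -/

theorem fix_of_pow {w : G} {p q k : ℕ} (hq : 1 < q) (hw : w ^ q = 1) (hk : Nat.Coprime k q)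
    (h : rho (w ^ k) p = p) : rho w p = p := by
  obtain ⟨m, hm⟩ := Nat.exists_mul_mod_eq_one_of_coprime hk hq
  have h1 : (w ^ k) ^ m = w := by
    rw [← pow_mul, ← Nat.div_add_mod (k * m) q, hm.2, pow_add, pow_mul, hw, one_pow, one_mul, pow_one]
  have h2 : ∀ n : ℕ, rho ((w ^ k) ^ n) p = p := by
    intro n
    induction n with
    | zero => rw [pow_zero, map_one]; rfl
    | succ n ih => rw [pow_succ, map_mul, Equiv.Perm.mul_apply, h, ih]
  have h3 := h2 m
  rwa [h1] at h3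

theorem rho_sq (w : G) (p : ℕ) : rho (w ^ 2) p = rho w (rho w p) := by
  rw [pow_two, map_mul, Equiv.Perm.mul_apply]

theorem rho_cu (w : G) (p : ℕ) : rho (w ^ 3) p = rho w (rho w (rho w p)) := by
  rw [pow_succ, pow_two, map_mul, map_mul, Equiv.Perm.mul_apply, Equiv.Perm.mul_apply]

/-- elements of odd prime order commuting with `W2` commute with `z0` -/
theorem fix_W2 {w : G} {q : ℕ} (hq : q.Prime) (h2 : q ≠ 2) (hw : w ^ q = 1) (hc : w * W2 = W2 * w) :
    w * z0 = z0 * w := by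
  rw [← fix_zero_iff]
  have hk : Nat.Coprime 2 q := (Nat.coprime_primes Nat.prime_two hq).2 (Ne.symm h2)
  rcases swap_or hc with h | ⟨h3, h4⟩
  · exact h.1
  · exact fix_of_pow hq.one_lt hw hk (by rw [rho_sq, h3, h4])

/-- elements of prime order at least five commuting with `W3` commute with `z0` -/
theorem fix_W3 {w : G} {q : ℕ} (hq : q.Prime) (h2 : q ≠ 2) (h3 : q ≠ 3) (hw : w ^ q = 1) (hc : w * W3 = W3 * w) :
    w * z0 = z0 * w := by
  rw [← fix_zero_iff]
  have k2 : Nat.Coprime 2 q := (Nat.coprime_primes Nat.prime_two hq).2 (Ne.symm h2)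
  have k3 : Nat.Coprime 3 q := (Nat.coprime_primes Nat.prime_three hq).2 (Ne.symm h3)
  obtain ⟨h0, h8, h1⟩ := perm_P3 hc
  rw [mem_P3] at h0 h8 h1
  have inj := (rho w).injective
  rcases h0 with h0 | h0 | h0
  · exact h0
  · rcases h8 with h8 | h8 | h8
    · exact fix_of_pow hq.one_lt hw k2 (by rw [rho_sq, h0, h8])
    · exact absurd (inj (h0.trans h8.symm)) (by norm_num)
    · rcases h1 with h1 | h1 | h1
      · exact fix_of_pow hq.one_lt hw k3 (by rw [rho_cu, h0, h8, h1])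
      · exact absurd (inj (h0.trans h1.symm)) (by norm_num)
      · exact absurd (inj (h8.trans h1.symm)) (by norm_num)
  · rcases h1 with h1 | h1 | h1
    · exact fix_of_pow hq.one_lt hw k2 (by rw [rho_sq, h0, h1])
    · rcases h8 with h8 | h8 | h8
      · exact fix_of_pow hq.one_lt hw k3 (by rw [rho_cu, h0, h1, h8])
      · exact absurd (inj (h1.trans h8.symm)) (by norm_num)
      · exact absurd (inj (h0.trans h8.symm)) (by norm_num)
    · exact absurd (inj (h0.trans h1.symm)) (by norm_num)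

/-- a transposition commuting with `z0` and `a` but not with `c` -/
theorem exists_b : ∃ b : G, Tp b ∧ b * z0 = z0 * b ∧ b * gen .a = gen .a * b ∧ b * gen .c ≠ gen .c * b := by
  obtain ⟨p, hp, h2, h3⟩ := Set.nonempty_of_ncard_ne_zero (s := NN3) (by rw [ncard_NN3]; norm_num)
  refine ⟨T p, tp_T hp, ?_, ?_, ?_⟩
  · exact ((fix_iff _ hp).1 (hW2 p hp h2 z0 (Or.inl rfl))).symm
  · exact ((fix_iff _ hp).1 (hW2 p hp h2 (gen .a) (Or.inr rfl))).symm
  · intro h
    exact h3 ((fix_iff _ hp).2 h.symm)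

theorem braid_b {b : G} (hb : Tp b) (h : b * gen .c ≠ gen .c * b) : b * gen .c * b = gen .c * b * gen .c := by
  obtain ⟨g, rfl⟩ := isConj_iff.1 (show IsConj z0 b from hb)
  apply braid_c
  intro h1
  exact h (fixC_iff.1 h1)

/-! ### Covers with an involution -/

omit [Nonempty Ω] [Finite ι] in
theorem conj_fam {x : ι → G} {r : ι → ℕ} (hx : PF x r) (hc : Cov Ω x) {i : ι} {w : G} (h : IsConj w (x i)) :
    ∃ x' : ι → G, PF x' r ∧ Cov Ω x' ∧ x' i = w := by
  obtain ⟨g, hg⟩ := isConj_iff.1 h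
  refine ⟨fun j => g⁻¹ * x j * g⁻¹⁻¹, PF.conj hx g⁻¹, Cov.conj hc g⁻¹, ?_⟩
  change g⁻¹ * x i * g⁻¹⁻¹ = w
  rw [← hg]
  group

theorem a_z : (gen .a : G) * z0 = z0 * gen .a := Cfsg.Agent.KFacts.FiTTh.Cent.za

theorem c_z : (gen .c : G) * z0 = z0 * gen .c := Cfsg.Agent.KFacts.FiTTh.Cent.zc

theorem a_c : (gen .a : G) * gen .c = gen .c * gen .a := Cfsg.Agent.KFacts.FiTTh.Cent.ac

theorem z_z : (z0 : G) * z0 = 1 := Cfsg.Agent.KFacts.FiTTh.Cent.zz

theorem a_a : (gen .a : G) * gen .a = 1 := Fischer.Fi23Final.gen_sq .a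

theorem c_cc : (gen .c : G) * gen .c = 1 := Fischer.Fi23Final.gen_sq .c

theorem even2 (hIH : IHx (Nat.card G)) (hE : Env G Ω (⊤ : Subgroup G)) {x : ι → G} {r : ι → ℕ} (hx : PF x r)
    (hc : Cov Ω x) {i : ι} (hi : r i = 2) (hw : x i = W2) : False := by
  refine dead hIH hE x r hx hc z0 tp_z0 fun j => ?_
  by_cases hj : j = i
  · rw [hj, hw]
    unfold W2
    rw [mul_assoc, a_z]
  · have h1 : r j ≠ 2 := fun h => hj (hx.inj (h.trans hi.symm))
    exact (fix_W2 (hx.prime j) h1 (hx.pow j) (by rw [← hw]; exact hx.comm j i)).symm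

theorem W3_eq' : (W3 : G) = z0 * gen .a * gen .c := rfl

theorem z_W3 : (z0 : G) * W3 = W3 * z0 := by
  rw [W3_eq']
  exact ((((Commute.refl (z0 : G)).mul_right (show Commute z0 (gen .a) from a_z.symm)).mul_right
    (show Commute z0 (gen .c) from c_z.symm))).eq

theorem even3 (hIH : IHx (Nat.card G)) (hE : Env G Ω (⊤ : Subgroup G)) {x : ι → G} {r : ι → ℕ} (hx : PF x r)
    (hc : Cov Ω x) {i : ι} (hi : r i = 2) (h3 : ∀ k, r k = 3 → ∀ j, j = i ∨ j = k) (hw : x i = W3) : False := by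
  classical
  by_cases hk : ∃ k, r k = 3
  swap
  · refine dead hIH hE x r hx hc z0 tp_z0 fun j => ?_
    by_cases hj : j = i
    · rw [hj, hw, z_W3]
    · have h1 : r j ≠ 2 := fun h => hj (hx.inj (h.trans hi.symm))
      exact (fix_W3 (hx.prime j) h1 (fun h => hk ⟨j, h⟩) (hx.pow j) (by rw [← hw]; exact hx.comm j i)).symm
  obtain ⟨k, hk⟩ := hk
  have hki : k ≠ i := by
    rintro rfl
    rw [hi] at hk
    exact absurd hk (by norm_num)
  have hs : orderOf (x k) = 3 := by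
    have : Fact (Nat.Prime 3) := ⟨Nat.prime_three⟩
    exact orderOf_eq_prime (by rw [← hk]; exact hx.pow k) (hx.ne k)
  have hcm : x k * W3 = W3 * x k := by rw [← hw]; exact hx.comm k i
  -- the case where `x k` commutes with `z0`
  have hfix : rho (x k) 0 ≠ 0 := by
    intro h
    refine dead hIH hE x r hx hc z0 tp_z0 fun j => ?_
    rcases h3 k hk j with rfl | rfl
    · rw [hw, z_W3]
    · exact ((fix_zero_iff _).1 h).symm
  -- the commutator `W2`
  obtain ⟨c, hc1, hc2⟩ : ∃ c : G, c * W3 = W3 * c ∧ W2 = c * x k * c⁻¹ * (x k)⁻¹ := by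
    have e0 : T 0 = z0 := T_zero
    have e1 : T 11589 = gen .a := T_a
    have zi : (z0 : G)⁻¹ = z0 := inv_eq_of_mul_eq_one_left z_z
    have ai : (gen .a : G)⁻¹ = gen .a := inv_eq_of_mul_eq_one_left a_a
    rcases fix_or_not hs hcm with h | h | h
    · exact absurd h.1 hfix
    · refine ⟨z0, z_W3, ?_⟩
      have h1 := T_act (x k) (p := 0) (by norm_num)
      rw [h.1, e0, e1] at h1
      rw [zi, mul_assoc, mul_assoc, ← mul_assoc (x k), ← h1]
      rfl
    · refine ⟨gen .a, ?_, ?_⟩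
      · rw [W3_eq']
        exact ((((show Commute (gen .a : G) z0 from a_z).mul_right (Commute.refl _)).mul_right
          (show Commute (gen .a : G) (gen .c) from a_c))).eq
      · have h1 := T_act (x k) (p := 11589) (by norm_num)
        rw [h.2.2, e0, e1] at h1
        rw [ai, mul_assoc, mul_assoc, ← mul_assoc (x k), ← h1, a_z]
        rfl
  obtain ⟨b, hb, hbz, hba, hbc⟩ := exists_b
  have hbr := braid_b hb hbc
  have bb : b * b = 1 := by
    obtain ⟨g, rfl⟩ := isConj_iff.1 (show IsConj z0 b from hb)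
    calc g * z0 * g⁻¹ * (g * z0 * g⁻¹) = g * (z0 * z0) * g⁻¹ := by group
      _ = 1 := by rw [z_z]; group
  have bi : b⁻¹ = b := inv_eq_of_mul_eq_one_left bb
  have Z := Cfsg.Agent.LThreeFi23.three_of_braid c_cc bb hbr.symm
  -- `[b, W3] = c b`
  have hcb : b * W3 * b⁻¹ * W3⁻¹ = gen .c * b := by
    have h1 : b * W3 * b⁻¹ = z0 * gen .a * (b * gen .c * b⁻¹) := by
      rw [W3_eq']
      calc b * (z0 * gen .a * gen .c) * b⁻¹ = (b * z0) * gen .a * gen .c * b⁻¹ := by group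
        _ = z0 * (b * gen .a) * gen .c * b⁻¹ := by rw [hbz]; group
        _ = _ := by rw [hba]; group
    have h2 : W3⁻¹ = gen .c * (z0 * gen .a)⁻¹ := by
      rw [W3_eq', mul_inv_rev, inv_eq_of_mul_eq_one_left c_cc]
    have h3 : b * gen .c * b⁻¹ * gen .c = gen .c * b := by
      rw [bi, hbr, mul_assoc, c_cc, mul_one]
    have h4 : Commute (z0 * gen .a : G) (gen .c * b) :=
      ((show Commute (z0 : G) (gen .c) from c_z.symm).mul_right (show Commute (z0 : G) b from hbz.symm)).mul_left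
        ((show Commute (gen .a : G) (gen .c) from a_c).mul_right (show Commute (gen .a : G) b from hba.symm))
    calc b * W3 * b⁻¹ * W3⁻¹ = z0 * gen .a * (b * gen .c * b⁻¹ * gen .c) * (z0 * gen .a)⁻¹ := by
          rw [h1, h2]; simp only [mul_assoc]
      _ = (z0 * gen .a) * (gen .c * b) * (z0 * gen .a)⁻¹ := by rw [h3]
      _ = gen .c * b := by rw [h4.eq, mul_inv_cancel_right]
  have zb : Commute (z0 : G) (gen .c * b) :=
    (show Commute (z0 : G) (gen .c) from c_z.symm).mul_right (show Commute (z0 : G) b from hbz.symm)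
  have ab : Commute (gen .a : G) (gen .c * b) :=
    (show Commute (gen .a : G) (gen .c) from a_c).mul_right (show Commute (gen .a : G) b from hba.symm)
  have w2 : (W2 : G) = z0 * gen .a := rfl
  refine repl_two (dead hIH hE) hx hc hki hk hi (c := c) (b := b) (y := W2) (s := gen .c * b) hc2
    (by rw [hw, hcb]) ?_ ?_ ?_ ?_ ?_ Z ?_ ?_ (d := z0) tp_z0 ?_ zb.eq ?_
  · intro j hj
    rcases h3 k hk j with rfl | rfl
    · rw [hw]; exact hc1
    · exact absurd rfl hj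
  · intro j h1 h2
    rcases h3 k hk j with rfl | rfl
    · exact absurd rfl h2
    · exact absurd rfl h1
  · rw [w2, ← mul_assoc, hbz, mul_assoc, hba, mul_assoc]
  · rw [w2, pow_two]
    calc z0 * gen .a * (z0 * gen .a) = z0 * (gen .a * z0) * gen .a := by group
      _ = (z0 * z0) * (gen .a * gen .a) := by rw [a_z]; simp only [mul_assoc]
      _ = 1 := by rw [z_z, a_a, one_mul]
  · intro h
    rw [h] at hc2
    rw [w2] at h
    have h5 : (z0 : G) = gen .a := by
      have := mul_eq_one_iff_eq_inv.1 h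
      rw [this, inv_eq_of_mul_eq_one_left a_a]
    exact Cfsg.Agent.KFacts.FiTTh.Cent.ne_gen_a h5.symm
  · intro h
    have h5 : (gen .c : G) = b := by
      have := mul_eq_one_iff_eq_inv.1 h
      rw [this, bi]
    exact hbc (by rw [h5])
  · rw [w2]
    exact (zb.mul_left ab).eq.symm
  · rw [w2, mul_assoc z0 (gen .a) z0, a_z]
  · intro j h1 h2
    rcases h3 k hk j with rfl | rfl
    · exact absurd rfl h2
    · exact absurd rfl h1

/-- **no cover contains an involution**, if it contains no element of order 3 or has two members only -/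
theorem even (hIH : IHx (Nat.card G)) (hE : Env G Ω (⊤ : Subgroup G)) {x : ι → G} {r : ι → ℕ} (hx : PF x r)
    (hc : Cov Ω x) {i : ι} (hi : r i = 2) (h3 : ∀ k, r k = 3 → ∀ j, j = i ∨ j = k) : False := by
  classical
  have B := Cfsg.Agent.KFacts.FiTTh.BasInv.base
  have hsq : x i * x i = 1 := by rw [← pow_two, ← hi]; exact hx.pow i
  obtain ⟨y, hy, hcj⟩ := Cfsg.Agent.KFacts.FiTTh.BasInv.exists_conj hsq
  obtain ⟨S, hn, hS, rfl⟩ := B.exists_pr hy
  have hsome : ∀ p ∈ S, ∃ l : ZMod 23, p = some l := by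
    intro p hp
    cases p with
    | none => exact absurd hp hn
    | some l => exact ⟨l, rfl⟩
  have h4 : S.card = 0 ∨ S.card = 1 ∨ S.card = 2 ∨ S.card = 3 := by omega
  rcases h4 with h4 | h4 | h4 | h4
  · rw [Finset.card_eq_zero.1 h4, Cfsg.Agent.KFacts.FiTTh.BasDef.pr_empty] at hcj
    exact hx.ne i (isConj_one_left.1 hcj)
  · obtain ⟨p, rfl⟩ := Finset.card_eq_one.1 h4
    obtain ⟨l, rfl⟩ := hsome p (by simp)
    rw [Cfsg.Agent.KFacts.FiTTh.BasDef.pr_singleton] at hcj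
    obtain ⟨g, -, hg⟩ := Cfsg.Agent.KFacts.FiTTh.BasFi.exists_e l
    have h5 : Tp (x i) := (isConj_iff.2 ⟨g, hg⟩ : IsConj z0 _).trans hcj.symm
    exact dead hIH hE x r hx hc _ h5 fun j => hx.comm i j
  · obtain ⟨p, q, hpq, rfl⟩ := Finset.card_eq_two.1 h4
    obtain ⟨l, rfl⟩ := hsome p (by simp)
    obtain ⟨m, rfl⟩ := hsome q (by simp)
    rw [B.pr_pair hpq] at hcj
    have hlm : l ≠ m := fun h => hpq (by rw [h])
    obtain ⟨x', h5, h6, h7⟩ := conj_fam hx hc ((isConj_W2 hlm).trans hcj.symm)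
    exact even2 hIH hE h5 h6 hi h7
  · obtain ⟨p, q, s, h1, h2, h5, rfl⟩ := Finset.card_eq_three.1 h4
    obtain ⟨l, rfl⟩ := hsome p (by simp)
    obtain ⟨m, rfl⟩ := hsome q (by simp)
    obtain ⟨n, rfl⟩ := hsome s (by simp)
    rw [B.pr_insert (by simp [h1, h2]), B.pr_pair h5, ← mul_assoc] at hcj
    have k1 : l ≠ m := fun h => h1 (by rw [h])
    have k2 : l ≠ n := fun h => h2 (by rw [h])
    have k3 : m ≠ n := fun h => h5 (by rw [h])
    obtain ⟨x', h5, h6, h7⟩ := conj_fam hx hc ((isConj_W3 k1 k2 k3).trans hcj.symm)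
    exact even3 hIH hE h5 h6 hi h3 h7

/-! ### The centralizers of the elements of orders 5 and 7 -/

/-- `C(y) = ⟨y⟩ × f (Sₙ)`, the swaps are transpositions -/
structure Str (n : ℕ) (y : G) (f : Equiv.Perm (Fin n) →* G) : Prop where
  inj : Function.Injective f
  sw : ∀ a b : Fin n, a ≠ b → Tp (f (Equiv.swap a b))
  cm : ∀ π, f π * y = y * f π
  cent : ∀ w, w * y = y * w → ∃ (i : ℤ) (π : Equiv.Perm (Fin n)), w = y ^ i * f π
  tr : ∀ (i : ℤ) (π : Equiv.Perm (Fin n)), y ^ i = f π → y ^ i = 1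

theorem tp_swap {n : ℕ} {f : Equiv.Perm (Fin n) →* G} {a₀ b₀ : Fin n} (h0 : a₀ ≠ b₀) (h : Tp (f (Equiv.swap a₀ b₀)))
    (a b : Fin n) (hab : a ≠ b) : Tp (f (Equiv.swap a b)) :=
  h.trans (f.map_isConj (Equiv.Perm.isConj_swap h0 hab))

theorem exists_str5 : ∃ f, Str 7 (elw y5) f := by
  obtain ⟨f, h1, h2, h3⟩ := Cfsg.Agent.H838.Fi23.exists_S7
  refine ⟨f, h3, ?_, ?_, ?_, ?_⟩
  · refine tp_swap (a₀ := Fin.castSucc (0 : Fin 6)) (b₀ := Fin.succ (0 : Fin 6)) (by decide) ?_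
    rw [h1]
    exact tp_el _
  · intro π
    have h4 : f π ∈ Cfsg.Agent.H838.Fi23.SL Cfsg.Agent.H838.Fi23.L7 := by rw [← h2]; exact ⟨π, rfl⟩
    exact (Cfsg.Agent.H838.Fi23.S7_comm_y5 h4).symm
  · intro w hw
    obtain ⟨i, x, hx, h4⟩ := Cfsg.Agent.H838.Fi23.cent5 hw
    rw [← h2] at hx
    obtain ⟨π, rfl⟩ := hx
    exact ⟨i, π, h4⟩
  · intro i π h4
    exact Cfsg.Agent.H838.Fi23.y5_pow_S7 i (by rw [h4, ← h2]; exact ⟨π, rfl⟩)

theorem exists_str7 : ∃ f, Str 5 (elw y7) f := by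
  obtain ⟨f, h1, h2, h3⟩ := Cfsg.Agent.H839.Fi23.exists_S5
  refine ⟨f, h3, ?_, ?_, ?_, ?_⟩
  · refine tp_swap (a₀ := Fin.castSucc (0 : Fin 4)) (b₀ := Fin.succ (0 : Fin 4)) (by decide) ?_
    rw [h1]
    exact tp_el _
  · intro π
    have h4 : f π ∈ Cfsg.Agent.H838.Fi23.SL Cfsg.Agent.H838.Fi23.L5 := by rw [← h2]; exact ⟨π, rfl⟩
    exact (Cfsg.Agent.H839.Fi23.S5_comm_y7 h4).symm
  · intro w hw
    obtain ⟨i, x, hx, h4⟩ := Cfsg.Agent.H839.Fi23.cent7 hw
    rw [← h2] at hx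
    obtain ⟨π, rfl⟩ := hx
    exact ⟨i, π, h4⟩
  · intro i π h4
    exact Cfsg.Agent.H839.Fi23.y7_pow_S5 i (by rw [h4, ← h2]; exact ⟨π, rfl⟩)

theorem back_pow {H : Type*} [Group H] {p : ℕ} (hp : p.Prime) {Y : H} (hY : Y ^ p = 1) {i : ℤ}
    (h1 : Y ^ i ≠ 1) : ∃ a : ℤ, Y = (Y ^ i) ^ a := by
  have h2 : ¬ (p : ℤ) ∣ i := by
    rintro ⟨k, rfl⟩
    rw [zpow_mul, zpow_natCast, hY, one_zpow] at h1
    exact h1 rfl
  have h3 : IsCoprime i (p : ℤ) := ((Nat.prime_iff_prime_int.1 hp).coprime_iff_not_dvd.2 h2).symm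
  obtain ⟨a, b, hab⟩ := h3
  refine ⟨a, ?_⟩
  rw [← zpow_mul]
  have h5 : i * a = 1 - p * b := by linarith [mul_comm i a, mul_comm b (p : ℤ)]
  rw [h5, zpow_sub, zpow_one, zpow_mul, zpow_natCast, hY, one_zpow, inv_one, mul_one]

/-- an element `≠ 1` of `⟨y⟩`, `y` of prime order, generates `⟨y⟩` -/
theorem comm_of_pow {y w v : G} {q : ℕ} (hq : q.Prime) (hy : y ^ q = 1) {i : ℤ} (hv : v = y ^ i) (hv1 : v ≠ 1)
    (h : w * v = v * w) : w * y = y * w := by
  obtain ⟨a, ha⟩ := back_pow hq hy (i := i) (by rw [← hv]; exact hv1)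
  rw [ha, ← hv]
  exact ((show Commute w v from h).zpow_right a).eq

/-- the members of order `≠ q` of a family with a power of `y` are in `f (Sₙ)` -/
theorem Str.mem {n : ℕ} {y : G} {f : Equiv.Perm (Fin n) →* G} (S : Str n y f) {q p : ℕ} (hq : q.Prime) (hp : p.Prime)
    (hpq : p ≠ q) (hy : y ^ q = 1) {w : G} (hw : w ^ p = 1) (h : w * y = y * w) : ∃ π, w = f π ∧ π ^ p = 1 := by
  obtain ⟨i, π, rfl⟩ := S.cent w h
  have hc : Commute (y ^ i) (f π) := (show Commute y (f π) from (S.cm π).symm).zpow_left i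
  rw [hc.mul_pow, ← map_pow] at hw
  have h1 : y ^ (i * p) = f ((π ^ p)⁻¹) := by
    rw [zpow_mul, zpow_natCast, map_inv]
    exact eq_inv_of_mul_eq_one_left hw
  have h2 := S.tr _ _ h1
  have h3 : (y ^ i) ^ p = 1 := by rw [← zpow_natCast, ← zpow_mul]; exact h2
  have h4 : (y ^ i) ^ q = 1 := by rw [← zpow_natCast, ← zpow_mul, mul_comm, zpow_mul, zpow_natCast, hy, one_zpow]
  have h5 : y ^ i = 1 := by
    have h6 : orderOf (y ^ i) ∣ Nat.gcd p q := Nat.dvd_gcd (orderOf_dvd_of_pow_eq_one h3) (orderOf_dvd_of_pow_eq_one h4)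
    rw [(Nat.coprime_primes hp hq).2 hpq] at h6
    exact orderOf_eq_one_iff.1 (Nat.dvd_one.1 h6)
  refine ⟨π, by rw [h5, one_mul], S.inj ?_⟩
  rw [h3, one_mul] at hw
  rw [hw, map_one]

/-- the orders of the elements of prime order -/
theorem prime_le {n p : ℕ} (hp : p.Prime) {π : Equiv.Perm (Fin n)} (h : π ^ p = 1) (h1 : π ≠ 1) : p ∣ n.factorial := by
  have : Fact p.Prime := ⟨hp⟩
  have h2 : orderOf π = p := orderOf_eq_prime h h1
  have h3 : orderOf π ∣ Fintype.card (Equiv.Perm (Fin n)) := orderOf_dvd_card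
  rwa [h2, Fintype.card_perm, Fintype.card_fin] at h3

theorem fix5 : ∀ ξ : Equiv.Perm (Fin 5), ξ ^ 3 = 1 → ξ ≠ 1 → ∃ a b, a ≠ b ∧ ξ a = a ∧ ξ b = b ∧
    ∀ c, ξ c = c → c = a ∨ c = b := by
  decide +kernel

theorem inv3 : ∀ π : Equiv.Perm (Fin 5), π 3 = 3 → π 4 = 4 → π ^ 2 = 1 → π ≠ 1 → ∃ a b, a ≠ b ∧ π = Equiv.swap a b := by
  decide +kernel

/-- a swap commuting with everything commuting with an element of order 3 of `S₅` -/
theorem swap5 {ξ : Equiv.Perm (Fin 5)} (h : ξ ^ 3 = 1) (h1 : ξ ≠ 1) :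
    ∃ a b : Fin 5, a ≠ b ∧ ∀ τ : Equiv.Perm (Fin 5), τ * ξ = ξ * τ → Equiv.swap a b * τ = τ * Equiv.swap a b := by
  obtain ⟨a, b, hab, ha, hb, hf⟩ := fix5 ξ h h1
  refine ⟨a, b, hab, fun τ hτ => ?_⟩
  have key : ∀ c, ξ c = c → ξ (τ c) = τ c := fun c hc => by
    rw [← Equiv.Perm.mul_apply, ← hτ, Equiv.Perm.mul_apply, hc]
  rw [Equiv.mul_swap_eq_swap_mul]
  rcases hf _ (key a ha) with h2 | h2 <;> rcases hf _ (key b hb) with h3 | h3
  · exact absurd (τ.injective (h2.trans h3.symm)) hab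
  · rw [h2, h3]
  · rw [h2, h3, Equiv.swap_comm]
  · exact absurd (τ.injective (h2.trans h3.symm)) hab

theorem comm_zpow' {u y : G} (h : u * y = y * u) (m : ℤ) : u * y ^ m = y ^ m * u :=
  ((show Commute u y from h).zpow_right m).eq

section fam

variable (hIH : IHx (Nat.card G)) (hE : Env G Ω (⊤ : Subgroup G)) {x : ι → G} {r : ι → ℕ} (hx : PF x r)
  (hc : Cov Ω x)

include hIH hE hx hc

/-- two members, one of them in `Sₙ` -/
theorem odd_two {n : ℕ} (hn : 5 ≤ n) {y : G} {f : Equiv.Perm (Fin n) →* G} (S : Str n y f) {j k : ι}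
    (hq : r j ≠ 2) (hall : ∀ l, l = j ∨ l = k) {m : ℤ} (hxj : x j = y ^ m)
    {π : Equiv.Perm (Fin n)} (hxk : x k = f π) : False := by
  rcases Cfsg.Agent.H86.RG.Prm.comm_or hn (x := π) with ⟨a, b, hab, h⟩ | ⟨a, b, hab, h1, h2, h3⟩
  · refine dead hIH hE x r hx hc _ (S.sw a b hab) fun l => ?_
    rcases hall l with rfl | rfl
    · rw [hxj]; exact comm_zpow' (S.cm _) m
    · rw [hxk, ← map_mul, ← map_mul, h]
  · have hcj : ∀ l, l ≠ k → f (Equiv.swap a b) * x l = x l * f (Equiv.swap a b) := by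
      intro l hl
      rcases hall l with rfl | rfl
      · rw [hxj]; exact comm_zpow' (S.cm _) m
      · exact absurd rfl hl
    have e : f (Equiv.swap a b) * x k * (f (Equiv.swap a b))⁻¹ * (x k)⁻¹ =
        f (Equiv.swap a b * π * (Equiv.swap a b)⁻¹ * π⁻¹) := by
      rw [hxk]; simp only [map_mul, map_inv]
    refine repl_one (dead hIH hE) hx hc k hcj Nat.prime_two (fun l hl => ?_) (by rw [e, ← map_pow, h1, map_one])
      (fun h => h2 (S.inj (by rw [← e, h, map_one]))) (d := f (Equiv.swap a b)) (S.sw a b hab)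
      (by rw [e, ← map_mul, ← map_mul, h3]) hcj
    rcases hall l with rfl | rfl
    · exact hq
    · exact absurd rfl hl

/-- a member of order 7 -/
theorem fam7 {j : ι} (hj : r j = 7) : False := by
  have p7 : Nat.Prime 7 := by norm_num
  obtain ⟨g, m, hg⟩ := conj_seven (y := x j) (by rw [← hj]; exact hx.pow j)
  obtain ⟨x', hx', hc', hxj⟩ := conj_fam (Ω := Ω) hx hc (i := j) (w := elw y7 ^ m)
    (isConj_iff.2 ⟨g⁻¹, by rw [← hg]; group⟩)
  clear hx hc hg
  obtain ⟨f, S⟩ := exists_str7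
  have hy : ∀ l, x' l * elw y7 = elw y7 * x' l := fun l =>
    comm_of_pow p7 pow7 hxj (hx'.ne j) (hx'.comm l j)
  have hmem : ∀ l, l ≠ j → ∃ π, x' l = f π ∧ π ^ r l = 1 ∧ π ≠ 1 := by
    intro l hl
    obtain ⟨π, h1, h2⟩ := S.mem p7 (hx'.prime l) (fun h => hl (hx'.inj (h.trans hj.symm))) pow7 (hx'.pow l) (hy l)
    exact ⟨π, h1, h2, fun h => hx'.ne l (by rw [h1, h, map_one])⟩
  by_cases h3 : ∃ k, r k = 3
  · obtain ⟨k, hk⟩ := h3
    have hkj : k ≠ j := by rintro rfl; rw [hj] at hk; exact absurd hk (by norm_num)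
    obtain ⟨ξ, hξ, hξ3, hξ1⟩ := hmem k hkj
    rw [hk] at hξ3
    obtain ⟨a, b, hab, hsw⟩ := swap5 hξ3 hξ1
    refine dead hIH hE x' r hx' hc' _ (S.sw a b hab) fun l => ?_
    by_cases hl : l = j
    · rw [hl, hxj]; exact comm_zpow' (S.cm _) m
    · obtain ⟨τ, hτ, -, -⟩ := hmem l hl
      have h4 : τ * ξ = ξ * τ := S.inj (by rw [map_mul, map_mul, ← hτ, ← hξ]; exact hx'.comm l k)
      rw [hτ, ← map_mul, ← map_mul, hsw τ h4]
  by_cases h2 : ∃ i, r i = 2
  · obtain ⟨i, hi⟩ := h2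
    exact even hIH hE hx' hc' hi fun k hk => absurd ⟨k, hk⟩ h3
  obtain ⟨k, hkj⟩ := Cov.two hE hc' hx'.ne j
  have hr : ∀ l, l ≠ j → r l = 5 := by
    intro l hl
    obtain ⟨π, -, h4, h5⟩ := hmem l hl
    have h6 := prime_le (hx'.prime l) h4 h5
    have h7 : r l ∣ 2 ^ 3 * 3 * 5 := by
      have : Nat.factorial 5 = 2 ^ 3 * 3 * 5 := by decide
      rwa [this] at h6
    have hp := hx'.prime l
    rcases (Nat.Prime.dvd_mul hp).1 h7 with h8 | h8
    · rcases (Nat.Prime.dvd_mul hp).1 h8 with h9 | h9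
      · exact absurd ⟨l, (Nat.prime_dvd_prime_iff_eq hp Nat.prime_two).1 (hp.dvd_of_dvd_pow h9)⟩ h2
      · exact absurd ⟨l, (Nat.prime_dvd_prime_iff_eq hp Nat.prime_three).1 h9⟩ h3
    · exact (Nat.prime_dvd_prime_iff_eq hp (by norm_num)).1 h8
  obtain ⟨π, h4, -, -⟩ := hmem k hkj
  refine odd_two hIH hE hx' hc' (n := 5) le_rfl S (j := j) (k := k) (by rw [hj]; norm_num) (fun l => ?_) hxj h4
  by_cases hl : l = j
  · exact Or.inl hl
  · exact Or.inr (hx'.inj ((hr l hl).trans (hr k hkj).symm))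

/-- a member of order 5, none of order 7 -/
theorem fam5 {j : ι} (hj : r j = 5) (h7 : ∀ l, r l ≠ 7) : False := by
  have p5 : Nat.Prime 5 := by norm_num
  obtain ⟨g, m, hg⟩ := conj_five (y := x j) (by rw [← hj]; exact hx.pow j)
  obtain ⟨x', hx', hc', hxj⟩ := conj_fam (Ω := Ω) hx hc (i := j) (w := elw y5 ^ m)
    (isConj_iff.2 ⟨g⁻¹, by rw [← hg]; group⟩)
  clear hx hc hg
  obtain ⟨f, S⟩ := exists_str5
  have hy : ∀ l, x' l * elw y5 = elw y5 * x' l := fun l =>
    comm_of_pow p5 pow5 hxj (hx'.ne j) (hx'.comm l j)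
  have hmem : ∀ l, l ≠ j → ∃ π, x' l = f π ∧ π ^ r l = 1 ∧ π ≠ 1 := by
    intro l hl
    obtain ⟨π, h1, h2⟩ := S.mem p5 (hx'.prime l) (fun h => hl (hx'.inj (h.trans hj.symm))) pow5 (hx'.pow l) (hy l)
    exact ⟨π, h1, h2, fun h => hx'.ne l (by rw [h1, h, map_one])⟩
  have hr : ∀ l, l ≠ j → r l = 2 ∨ r l = 3 := by
    intro l hl
    obtain ⟨π, -, h4, h5⟩ := hmem l hl
    have h6 := prime_le (hx'.prime l) h4 h5
    have h8 : r l ∣ 2 ^ 4 * 3 ^ 2 * 5 * 7 := by
      have : Nat.factorial 7 = 2 ^ 4 * 3 ^ 2 * 5 * 7 := by decide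
      rwa [this] at h6
    have hp := hx'.prime l
    rcases (Nat.Prime.dvd_mul hp).1 h8 with h8 | h8
    · rcases (Nat.Prime.dvd_mul hp).1 h8 with h8 | h8
      · rcases (Nat.Prime.dvd_mul hp).1 h8 with h9 | h9
        · exact Or.inl ((Nat.prime_dvd_prime_iff_eq hp Nat.prime_two).1 (hp.dvd_of_dvd_pow h9))
        · exact Or.inr ((Nat.prime_dvd_prime_iff_eq hp Nat.prime_three).1 (hp.dvd_of_dvd_pow h9))
      · exact absurd (hx'.inj (((Nat.prime_dvd_prime_iff_eq hp p5).1 h8).trans hj.symm)) hl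
    · exact absurd ((Nat.prime_dvd_prime_iff_eq hp (by norm_num)).1 h8) (h7 l)
  have hswj : ∀ π, f π * x' j = x' j * f π := fun π => by rw [hxj]; exact comm_zpow' (S.cm _) m
  by_cases h2 : ∃ i, r i = 2
  · obtain ⟨i, hi⟩ := h2
    by_cases h3 : ∃ k, r k = 3
    swap
    · exact even hIH hE hx' hc' hi fun k hk => absurd ⟨k, hk⟩ h3
    obtain ⟨k, hk⟩ := h3
    have hkj : k ≠ j := by rintro rfl; rw [hj] at hk; exact absurd hk (by norm_num)
    have hij : i ≠ j := by rintro rfl; rw [hj] at hi; exact absurd hi (by norm_num)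
    have hki : k ≠ i := by rintro rfl; rw [hi] at hk; exact absurd hk (by norm_num)
    have hall : ∀ l, l ≠ k → l ≠ i → l = j := by
      intro l h4 h5
      by_contra h6
      rcases hr l h6 with h7 | h7
      · exact h5 (hx'.inj (h7.trans hi.symm))
      · exact h4 (hx'.inj (h7.trans hk.symm))
    obtain ⟨ξ, hξ, hξ3, hξ1⟩ := hmem k hkj
    obtain ⟨τ, hτ, hτ2, hτ1⟩ := hmem i hij
    rw [hk] at hξ3
    rw [hi] at hτ2
    have hcm : ξ * τ = τ * ξ := S.inj (by rw [map_mul, map_mul, ← hτ, ← hξ]; exact hx'.comm k i)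
    rcases Cfsg.Agent.H86.RG.Prm.six_repl hξ3 hτ2 hτ1 hcm with ⟨a, b, hab, h4, h5⟩ |
      ⟨c, b, y, s, ⟨a, a', haa, hca⟩, hy0, hs0, e1, e2, e3, e4, e5, e6, e7, e8, e9⟩
    · refine dead hIH hE x' r hx' hc' _ (S.sw a b hab) fun l => ?_
      by_cases hlk : l = k
      · rw [hlk, hξ, ← map_mul, ← map_mul, h4]
      by_cases hli : l = i
      · rw [hli, hτ, ← map_mul, ← map_mul, h5]
      rw [hall l hlk hli]
      exact hswj _
    · refine repl_two (dead hIH hE) hx' hc' hki hk hi (c := f c) (b := f b) (y := f y) (s := f s) ?_ ?_ ?_ ?_ ?_ ?_ ?_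
        ?_ ?_ ?_ (d := f c) ?_ ?_ ?_ ?_
      · rw [hξ, hy0]; simp only [map_mul, map_inv]
      · rw [hτ, hs0]; simp only [map_mul, map_inv]
      · intro l hl
        by_cases hli : l = i
        · rw [hli, hτ, ← map_mul, ← map_mul, e1]
        rw [hall l hl hli]
        exact hswj _
      · intro l hl hli
        rw [hall l hl hli]
        exact hswj _
      · rw [← map_mul, ← map_mul, e2]
      · rw [← map_pow, e3, map_one]
      · exact fun h => e4 (S.inj (by rw [h, map_one]))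
      · rw [← map_pow, e5, map_one]
      · exact fun h => e6 (S.inj (by rw [h, map_one]))
      · rw [← map_mul, ← map_mul, e7]
      · rw [hca]; exact S.sw _ _ haa
      · rw [← map_mul, ← map_mul, e8]
      · rw [← map_mul, ← map_mul, e9]
      · intro l hl hli
        rw [hall l hl hli]
        exact hswj _
  · obtain ⟨k, hkj⟩ := Cov.two hE hc' hx'.ne j
    have hr3 : ∀ l, l ≠ j → r l = 3 := fun l hl => (hr l hl).resolve_left fun h => h2 ⟨l, h⟩
    obtain ⟨π, h4, -, -⟩ := hmem k hkj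
    refine odd_two hIH hE hx' hc' (n := 7) (by norm_num) S (j := j) (k := k) (by rw [hj]; norm_num) (fun l => ?_) hxj h4
    by_cases hl : l = j
    · exact Or.inl hl
    · exact Or.inr (hx'.inj ((hr3 l hl).trans (hr3 k hkj).symm))

omit [Finite ι] hIH in
/-- a member generating its centralizer -/
theorem fam_self {q : ℕ} (hq : q.Prime) {Y : G} (hY : Y ^ q = 1) (hcent : ∀ w, w * Y = Y * w → w ∈ zpowers Y)
    (hconj : ∀ y : G, y ^ q = 1 → ∃ g : G, ∃ i : ℤ, g * y * g⁻¹ = Y ^ i) {j : ι} (hj : r j = q) : False := by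
  obtain ⟨g, m, hg⟩ := hconj (x j) (by rw [← hj]; exact hx.pow j)
  obtain ⟨x', hx', hc', hxj⟩ := conj_fam (Ω := Ω) hx hc (i := j) (w := Y ^ m)
    (isConj_iff.2 ⟨g⁻¹, by rw [← hg]; group⟩)
  obtain ⟨k, hkj⟩ := Cov.two hE hc' hx'.ne j
  obtain ⟨a, ha⟩ := hcent _ (comm_of_pow hq hY hxj (hx'.ne j) (hx'.comm k j))
  have h1 : x' k ^ q = 1 := by
    have ha' : Y ^ a = x' k := ha
    rw [← ha', ← zpow_natCast, ← zpow_mul, mul_comm, zpow_mul, zpow_natCast, hY, one_zpow]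
  have hp := hx'.prime k
  have : Fact (r k).Prime := ⟨hp⟩
  have h2 : orderOf (x' k) = r k := orderOf_eq_prime (hx'.pow k) (hx'.ne k)
  have h3 := orderOf_dvd_of_pow_eq_one h1
  rw [h2] at h3
  exact hkj (hx'.inj (((Nat.prime_dvd_prime_iff_eq hp hq).1 h3).trans hj.symm))

/-- a member of order 11 -/
theorem fam11 {j : ι} (hj : r j = 11) : False := by
  have p11 : Nat.Prime 11 := by norm_num
  obtain ⟨g, m, hg⟩ := conj_eleven (y := x j) (by rw [← hj]; exact hx.pow j)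
  obtain ⟨x', hx', hc', hxj⟩ := conj_fam (Ω := Ω) hx hc (i := j) (w := elw y11 ^ m)
    (isConj_iff.2 ⟨g⁻¹, by rw [← hg]; group⟩)
  clear hx hc hg
  have hy : ∀ l, x' l * elw y11 = elw y11 * x' l := fun l =>
    comm_of_pow p11 pow11 hxj (hx'.ne j) (hx'.comm l j)
  have hfix : ∀ l, r l ≠ 2 → rho (x' l) 0 = 0 := by
    intro l hl
    rcases fix11' (hy l) (Or.inl rfl) with h1 | h1
    · exact h1
    rcases fix11' (hy l) (Or.inr rfl) with h2 | h2
    · exact fix_of_pow (hx'.prime l).one_lt (hx'.pow l) ((Nat.coprime_primes Nat.prime_two (hx'.prime l)).2 (Ne.symm hl))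
        (by rw [rho_sq, h1, h2])
    · exact absurd ((rho (x' l)).injective (h1.trans h2.symm)) (by norm_num)
  by_cases h2 : ∃ i, r i = 2
  swap
  · refine dead hIH hE x' r hx' hc' z0 tp_z0 fun l => ?_
    exact ((fix_zero_iff _).1 (hfix l fun h => h2 ⟨l, h⟩)).symm
  obtain ⟨i, hi⟩ := h2
  refine even hIH hE hx' hc' hi fun k hk => ?_
  exfalso
  obtain ⟨a, κ, hκ, hw⟩ := Cfsg.Agent.H839.Fi23.cent11 (hy k) (hfix k (by rw [hk]; norm_num))
  have hκ2 := Cfsg.Agent.H839.Fi23.K4_sq hκ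
  have hcm : Commute (elw y11 ^ a) κ := (show Commute (elw y11) κ from Cfsg.Agent.H839.Fi23.K4_comm_y hκ).zpow_left a
  have h3 : x' k ^ 3 = 1 := by rw [← hk]; exact hx'.pow k
  have h6 : (elw y11 ^ a) ^ 6 = 1 := by
    have h7 : x' k ^ 6 = 1 := by rw [show 6 = 3 * 2 from rfl, pow_mul, h3, one_pow]
    rw [hw, hcm.mul_pow, show κ ^ 6 = (κ ^ 2) ^ 3 by rw [← pow_mul], hκ2, one_pow, mul_one] at h7
    exact h7
  have h11 : (elw y11 ^ a) ^ 11 = 1 := by
    rw [← zpow_natCast, ← zpow_mul, mul_comm, zpow_mul, zpow_natCast, pow11, one_zpow]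
  have h1 : elw y11 ^ a = 1 := by
    have h8 : orderOf (elw y11 ^ a) ∣ Nat.gcd 6 11 :=
      Nat.dvd_gcd (orderOf_dvd_of_pow_eq_one h6) (orderOf_dvd_of_pow_eq_one h11)
    exact orderOf_eq_one_iff.1 (Nat.dvd_one.1 h8)
  rw [h1, one_mul] at hw
  rw [← hw] at hκ2
  have h9 : orderOf (x' k) ∣ Nat.gcd 2 3 :=
    Nat.dvd_gcd (orderOf_dvd_of_pow_eq_one hκ2) (orderOf_dvd_of_pow_eq_one h3)
  exact hx'.ne k (orderOf_eq_one_iff.1 (Nat.dvd_one.1 h9))

end fam

/-- a subgroup normalised by a simple group and meeting it -/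
theorem le_of_simple {M K : Subgroup G} (hS : IsSimpleGroup M) (hK : ∀ c ∈ M, ∀ k ∈ K, c * k * c⁻¹ ∈ K) {y : G}
    (hyM : y ∈ M) (hyK : y ∈ K) (hy1 : y ≠ 1) : M ≤ K := by
  have hn : (K.subgroupOf M).Normal := ⟨fun k hk c => hK c c.2 k hk⟩
  rcases hS.eq_bot_or_eq_top_of_normal _ hn with h | h
  · exfalso
    apply hy1
    have h1 : (⟨y, hyM⟩ : M) ∈ K.subgroupOf M := hyK
    rw [h, mem_bot] at h1
    exact congrArg Subtype.val h1
  · intro z hz
    have h1 : (⟨z, hz⟩ : M) ∈ K.subgroupOf M := by rw [h]; trivial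
    exact h1

/-- the elements of `⟨z, j⟩` in `S₅` -/
theorem mem_L3 {f : Equiv.Perm (Fin 5) →* G}
    (h1 : ∀ i : Fin 4, f (Equiv.swap i.castSucc i.succ) = el (Cfsg.Agent.H839.Fi23.c5 i)) {s : G}
    (hs : s ∈ Cfsg.Agent.H838.Fi23.SL Cfsg.Agent.H839.Fi23.L3) : ∃ π, s = f π ∧ π 3 = 3 ∧ π 4 = 4 := by
  have key : Cfsg.Agent.H838.Fi23.SL Cfsg.Agent.H839.Fi23.L3 ≤
      (stabilizer (Equiv.Perm (Fin 5)) (3 : Fin 5) ⊓ stabilizer (Equiv.Perm (Fin 5)) (4 : Fin 5)).map f := by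
    unfold Cfsg.Agent.H838.Fi23.SL
    rw [closure_le]
    rintro _ ⟨l, hl, rfl⟩
    simp only [Cfsg.Agent.H839.Fi23.L3, List.mem_cons, List.not_mem_nil, or_false] at hl
    rcases hl with rfl | rfl
    · exact ⟨_, ⟨show Equiv.swap (Fin.castSucc (0 : Fin 4)) (Fin.succ (0 : Fin 4)) (3 : Fin 5) = 3 by decide,
        show Equiv.swap (Fin.castSucc (0 : Fin 4)) (Fin.succ (0 : Fin 4)) (4 : Fin 5) = 4 by decide⟩, h1 0⟩
    · exact ⟨_, ⟨show Equiv.swap (Fin.castSucc (1 : Fin 4)) (Fin.succ (1 : Fin 4)) (3 : Fin 5) = 3 by decide,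
        show Equiv.swap (Fin.castSucc (1 : Fin 4)) (Fin.succ (1 : Fin 4)) (4 : Fin 5) = 4 by decide⟩, h1 1⟩
  obtain ⟨π, ⟨h3, h4⟩, h5⟩ := key hs
  exact ⟨π, h5.symm, h3, h4⟩

section fam

variable (hIH : IHx (Nat.card G)) (hE : Env G Ω (⊤ : Subgroup G)) {x : ι → G} {r : ι → ℕ} (hx : PF x r)
  (hc : Cov Ω x)

include hIH hE hx hc

/-- a member of order 13 -/
theorem fam13 {j : ι} (hj : r j = 13) : False := by
  classical
  have p13 : Nat.Prime 13 := by norm_num
  obtain ⟨g, m, hg⟩ := conj_thirteen (y := x j) (by rw [← hj]; exact hx.pow j)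
  obtain ⟨x', hx', hc', hxj⟩ := conj_fam (Ω := Ω) hx hc (i := j) (w := elw y13 ^ m)
    (isConj_iff.2 ⟨g⁻¹, by rw [← hg]; group⟩)
  clear hx hc hg
  have hy : ∀ l, x' l * elw y13 = elw y13 * x' l := fun l =>
    comm_of_pow p13 pow13 hxj (hx'.ne j) (hx'.comm l j)
  have hmem : ∀ l, l ≠ j → x' l ∈ Cfsg.Agent.H838.Fi23.SL Cfsg.Agent.H839.Fi23.L3 := by
    intro l hl
    obtain ⟨a, s, hs, hw⟩ := Cfsg.Agent.H839.Fi23.cent13 (hy l)
    have hcm : Commute (elw y13 ^ a) s := (show Commute (elw y13) s from Cfsg.Agent.H839.Fi23.S3_comm_y13 hs).zpow_left a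
    have h1 := hx'.pow l
    rw [hw, hcm.mul_pow] at h1
    have h2 : elw y13 ^ (a * r l) = (s ^ r l)⁻¹ := by
      rw [zpow_mul, zpow_natCast]
      exact eq_inv_of_mul_eq_one_left h1
    have h3 := Cfsg.Agent.H839.Fi23.y13_pow_S3 (a * r l) (by rw [h2]; exact inv_mem (pow_mem hs _))
    have h4 : (elw y13 ^ a) ^ r l = 1 := by rw [← zpow_natCast, ← zpow_mul]; exact h3
    have h5 : (elw y13 ^ a) ^ 13 = 1 := by
      rw [← zpow_natCast, ← zpow_mul, mul_comm, zpow_mul, zpow_natCast, pow13, one_zpow]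
    have h6 : elw y13 ^ a = 1 := by
      have h7 : orderOf (elw y13 ^ a) ∣ Nat.gcd (r l) 13 :=
        Nat.dvd_gcd (orderOf_dvd_of_pow_eq_one h4) (orderOf_dvd_of_pow_eq_one h5)
      rw [(Nat.coprime_primes (hx'.prime l) p13).2 (fun h => hl (hx'.inj (h.trans hj.symm)))] at h7
      exact orderOf_eq_one_iff.1 (Nat.dvd_one.1 h7)
    rw [hw, h6, one_mul]
    exact hs
  by_cases h2 : ∃ i, r i = 2
  · obtain ⟨i, hi⟩ := h2
    have hij : i ≠ j := by rintro rfl; rw [hj] at hi; exact absurd hi (by norm_num)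
    obtain ⟨f, h1, -, h3⟩ := Cfsg.Agent.H839.Fi23.exists_S5
    obtain ⟨π, h4, h5, h6⟩ := mem_L3 h1 (hmem i hij)
    have h7 : π ^ 2 = 1 := h3 (by rw [map_pow, ← h4, map_one, ← hi]; exact hx'.pow i)
    have h8 : π ≠ 1 := fun h => hx'.ne i (by rw [h4, h, map_one])
    obtain ⟨a, b, hab, rfl⟩ := inv3 π h5 h6 h7 h8
    have h9 : Tp (x' i) := by
      rw [h4]
      refine tp_swap (a₀ := Fin.castSucc (0 : Fin 4)) (b₀ := Fin.succ (0 : Fin 4)) (by decide) ?_ a b hab
      rw [h1]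
      exact tp_el _
    exact dead hIH hE x' r hx' hc' _ h9 fun l => hx'.comm i l
  -- all orders are odd: replace the member of order 13 by the transposition `a`
  have hCS : ∀ c ∈ CC, ∀ s ∈ Cfsg.Agent.H838.Fi23.SL Cfsg.Agent.H839.Fi23.L3, c * s = s * c := by
    intro c hc s hs
    obtain ⟨h3, h4⟩ := mem_CC.1 hc
    refine Cfsg.Agent.H838.Fi23.SL_comm ?_ hs
    intro l hl
    simp only [Cfsg.Agent.H839.Fi23.L3, List.mem_cons, List.not_mem_nil, or_false] at hl
    rcases hl with rfl | rfl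
    · exact h3
    · exact h4
  have hyC : elw y13 ∈ CC := mem_CC.2 ⟨Cfsg.Agent.H839.Fi23.S3_comm_y13 (Cfsg.Agent.H838.Fi23.el_mem (by decide)),
    Cfsg.Agent.H839.Fi23.S3_comm_y13 (Cfsg.Agent.H838.Fi23.el_mem (by decide))⟩
  have hjC : x' j ∈ CC := by rw [hxj]; exact zpow_mem hyC m
  have haC : (el .a : G) ∈ CC := mem_CC.2 ⟨by
      have := comm_words [.a] [.z] (by decide)
      rwa [elw_one, elw_one] at this, by
      have := comm_words [.a] [.j] (by decide)
      rwa [elw_one, elw_one] at this⟩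
  have hle : CC ≤ closure {z | ∃ c : G, (∀ l, l ≠ j → c * x' l = x' l * c) ∧ z = c * x' j * c⁻¹} := by
    refine le_of_simple simple_CC ?_ hjC (subset_closure ⟨1, fun l _ => by rw [one_mul, mul_one], by group⟩) (hx'.ne j)
    intro c hc k hk
    have h3 : ∀ l, l ≠ j → c * x' l = x' l * c := fun l hl => hCS c hc _ (hmem l hl)
    refine closure_induction (p := fun k _ => c * k * c⁻¹ ∈
      closure {z | ∃ c : G, (∀ l, l ≠ j → c * x' l = x' l * c) ∧ z = c * x' j * c⁻¹}) ?_ ?_ ?_ ?_ hk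
    · rintro _ ⟨d, hd, rfl⟩
      refine subset_closure ⟨c * d, fun l hl => ?_, by group⟩
      rw [mul_assoc, hd l hl, ← mul_assoc, h3 l hl, mul_assoc]
    · rw [mul_one, mul_inv_cancel]; exact one_mem _
    · intro u v _ _ hu hv
      have e : c * (u * v) * c⁻¹ = (c * u * c⁻¹) * (c * v * c⁻¹) := by group
      rw [e]; exact mul_mem hu hv
    · intro u _ hu
      have e : c * u⁻¹ * c⁻¹ = (c * u * c⁻¹)⁻¹ := by group
      rw [e]; exact inv_mem hu
  have hc2 := hc'.mv j (hle haC)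
  have hca : ∀ l, l ≠ j → (el .a : G) * x' l = x' l * el .a := fun l hl => hCS _ haC _ (hmem l hl)
  have hpf := pf_update hx' j (y := (el .a : G)) Nat.prime_two (fun l _ h => h2 ⟨l, h⟩)
    (by rw [pow_two, el_sq]) (tp_ne (tp_el .a)) hca
  refine dead hIH hE _ _ hpf (by convert hc2) (el .a) (tp_el .a) fun l => ?_
  by_cases hl : l = j
  · rw [hl, Function.update_self]
  · rw [Function.update_of_ne hl]; exact hca l hl

/-- **no covers** -/
theorem no_cover : False := by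
  by_cases h23 : ∃ j, r j = 23
  · obtain ⟨j, hj⟩ := h23
    exact fam_self hE hx hc (by norm_num) pow23 (fun w h => Cfsg.Agent.H839.Fi23.cent23 h)
      (fun y h => conj_twentythree h) hj
  by_cases h17 : ∃ j, r j = 17
  · obtain ⟨j, hj⟩ := h17
    exact fam_self hE hx hc (by norm_num) pow17 (fun w h => Cfsg.Agent.H839.Fi23.cent17 h)
      (fun y h => conj_seventeen h) hj
  by_cases h13 : ∃ j, r j = 13
  · obtain ⟨j, hj⟩ := h13
    exact fam13 hIH hE hx hc hj
  by_cases h11 : ∃ j, r j = 11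
  · obtain ⟨j, hj⟩ := h11
    exact fam11 hIH hE hx hc hj
  by_cases h7 : ∃ j, r j = 7
  · obtain ⟨j, hj⟩ := h7
    exact fam7 hIH hE hx hc hj
  by_cases h5 : ∃ j, r j = 5
  · obtain ⟨j, hj⟩ := h5
    exact fam5 hIH hE hx hc hj fun l hl => h7 ⟨l, hl⟩
  push Not at h23 h17 h13 h11 h7 h5
  have hr : ∀ l, r l = 2 ∨ r l = 3 := by
    intro l
    have hp := hx.prime l
    have : Fact (r l).Prime := ⟨hp⟩
    have h1 : orderOf (x l) = r l := orderOf_eq_prime (hx.pow l) (hx.ne l)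
    have h2 : r l ∣ 2 ^ 18 * (3 ^ 13 * (5 ^ 2 * (7 * (11 * (13 * (17 * 23)))))) := by
      have h3 : orderOf (x l) ∣ Nat.card G := orderOf_dvd_natCard _
      rw [h1, card_G] at h3
      exact h3.trans (by norm_num)
    rcases (Nat.Prime.dvd_mul hp).1 h2 with h | h
    · exact Or.inl ((Nat.prime_dvd_prime_iff_eq hp Nat.prime_two).1 (hp.dvd_of_dvd_pow h))
    rcases (Nat.Prime.dvd_mul hp).1 h with h | h
    · exact Or.inr ((Nat.prime_dvd_prime_iff_eq hp Nat.prime_three).1 (hp.dvd_of_dvd_pow h))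
    rcases (Nat.Prime.dvd_mul hp).1 h with h | h
    · exact absurd ((Nat.prime_dvd_prime_iff_eq hp (by norm_num)).1 (hp.dvd_of_dvd_pow h)) (h5 l)
    rcases (Nat.Prime.dvd_mul hp).1 h with h | h
    · exact absurd ((Nat.prime_dvd_prime_iff_eq hp (by norm_num)).1 h) (h7 l)
    rcases (Nat.Prime.dvd_mul hp).1 h with h | h
    · exact absurd ((Nat.prime_dvd_prime_iff_eq hp (by norm_num)).1 h) (h11 l)
    rcases (Nat.Prime.dvd_mul hp).1 h with h | h
    · exact absurd ((Nat.prime_dvd_prime_iff_eq hp (by norm_num)).1 h) (h13 l)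
    rcases (Nat.Prime.dvd_mul hp).1 h with h | h
    · exact absurd ((Nat.prime_dvd_prime_iff_eq hp (by norm_num)).1 h) (h17 l)
    · exact absurd ((Nat.prime_dvd_prime_iff_eq hp (by norm_num)).1 h) (h23 l)
  obtain ⟨ω⟩ := (inferInstance : Nonempty Ω)
  obtain ⟨j, -⟩ := hc ω
  obtain ⟨k, hkj⟩ := Cov.two hE hc hx.ne j
  obtain ⟨i, hi⟩ : ∃ i, r i = 2 := by
    by_contra h
    push Not at h
    exact hkj (hx.inj (((hr k).resolve_left (h k)).trans ((hr j).resolve_left (h j)).symm))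
  refine even hIH hE hx hc hi fun l hl m => ?_
  rcases hr m with h | h
  · exact Or.inl (hx.inj (h.trans hi.symm))
  · exact Or.inr (hx.inj (h.trans hl.symm))

end fam

/-- the model -/
theorem rc_model (hIH : IHx (Nat.card G)) : RC G := by
  have hS : IsSimpleGroup G := nsimple
  have hn : ¬ IsMulCommutative G := by
    intro h
    obtain ⟨b, -, -, -, hb⟩ := exists_b
    exact hb (h.is_comm.comm _ _)
  refine rc_of_noCov hS hn (noCov_of_inner (fun α => ?_) ?_)
  · obtain ⟨s, hs⟩ := Cfsg.Agent.KFacts.FiTTh.Has.inn α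
    exact ⟨s, hs⟩
  · intro Ω _ _ _ hE ι _ x r hx hc _
    exact no_cover hIH hE hx hc

/-- **S3509, row `Fi23`** -/
theorem row_fi23 : RowX (fun S _ => Spor.IsoFi23 S) := by
  intro S _ _ _ ⟨e⟩ hIH
  rw [Nat.card_congr e.toEquiv] at hIH
  exact RC.congr e.symm (rc_model hIH)

end Cfsg.Agent.H799.RG.Fi
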